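import Cfsg.Agent.Known.PSUThree.Main

/-!
# Root involutions: `PSU₃` in characteristic two is not generated by the involutions commuting with one
involution together with one more involution (all of them fix a common vector).
-/

set_option autoImplicit false
set_option linter.unusedSectionVars false
set_option linter.style.haveILetI false

open Subgroup
open Cfsg.Lib.Classical Cfsg.Lib.Components.UnitaryThree Cfsg.Lib.Known.PSUThree

namespace Cfsg.Lib.RootInv

section Space

universe u v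

variable {F : Type u} [Field F] [Finite F] [CharP F 2] {V : Type v} [AddCommGroup V] [Module F V]
  [FiniteDimensional F V] {H : HermSpace F V}

theorem add_self_vec {F : Type u} [Field F] [CharP F 2] {V : Type v} [AddCommGroup V] [Module F V] (v : V) :
    v + v = 0 := by
  rw [← two_smul F v, CharTwo.two_eq_zero, zero_smul]

/-- The displacement `g + 1` of `g`. -/
def disp (g : H.SIsom) : V →ₗ[F] V := g.1.1.toLinearMap + LinearMap.id

theorem disp_apply (g : H.SIsom) (x : V) : disp g x = g.1.1 x + x := rfl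

theorem disp_sq {g : H.SIsom} (hg : g * g = 1) (x : V) : disp g (disp g x) = 0 := by
  have h : g.1.1 (g.1.1 x) = x := by rw [← H.smul_mul_apply, hg]; rfl
  rw [disp_apply, disp_apply, map_add, h, add_comm x, add_self_vec (F := F)]

theorem mem_ker_disp {g : H.SIsom} {x : V} : x ∈ LinearMap.ker (disp g) ↔ g.1.1 x = x := by
  rw [LinearMap.mem_ker, disp_apply]
  refine ⟨fun h => ?_, fun h => by rw [h, add_self_vec (F := F)]⟩
  have h2 := congrArg (fun z => z + x) h
  simpa only [add_assoc, add_self_vec (F := F), add_zero, zero_add] using h2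

variable (hd : Module.finrank F V = 3)
include hd

/-- An involution fixes pointwise the orthogonal of an isotropic vector. -/
theorem exists_axis {g : H.SIsom} (hg : g * g = 1) (hg1 : g ≠ 1) :
    ∃ v : V, v ≠ 0 ∧ H.h v v = 0 ∧ (∃ x, disp g x = v) ∧ ∀ x, H.h x v = 0 → g.1.1 x = x := by
  obtain ⟨x₀, hx₀⟩ : ∃ x, disp g x ≠ 0 := by
    by_contra hc
    push Not at hc
    exact hg1 (H.sisom_ext fun x => (mem_ker_disp (g := g)).1 (hc x))
  set v := disp g x₀ with hv
  have hker : LinearMap.range (disp g) ≤ LinearMap.ker (disp g) := by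
    rintro _ ⟨x, rfl⟩
    exact disp_sq hg x
  have hperp : ∀ x ∈ LinearMap.ker (disp g), H.h x v = 0 := by
    intro x hx
    have h := H.map_form g.1 x x₀
    rw [mem_ker_disp.1 hx] at h
    rw [hv, disp_apply, H.add_right, h, CharTwo.add_self_eq_zero]
  refine ⟨v, hx₀, hperp v (disp_sq hg x₀), ⟨x₀, rfl⟩, fun x hx => ?_⟩
  have h1 := LinearMap.finrank_range_add_finrank_ker (disp g)
  have h2 := Submodule.finrank_mono hker
  have h3 : LinearMap.ker (disp g) ≤ H.orth (Submodule.span F {v}) := fun y hy =>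
    H.mem_orth_span.2 (by rintro z rfl; exact hperp y hy)
  have h4 : Module.finrank F (H.orth (Submodule.span F {v})) = 2 := by
    rw [H.finrank_orth, finrank_span_singleton hx₀, hd]
  have h5 := Submodule.eq_of_le_of_finrank_le h3 (by omega)
  exact mem_ker_disp.1 (h5.symm ▸ H.mem_orth_span.2 (by rintro z rfl; exact hx))

/-- An involution commuting with an involution fixes the same hyperplane. -/
theorem fix_of_commute {g t : H.SIsom} (hg : g * g = 1) (ht : t * t = 1) (hgt : Commute t g) {v x₀ : V}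
    (hv : v ≠ 0) (hvv : H.h v v = 0) (hx₀ : disp g x₀ = v) (hgx : ∀ x, H.h x v = 0 → g.1.1 x = x)
    {x : V} (hx : H.h x v = 0) : t.1.1 x = x := by
  rcases eq_or_ne t 1 with rfl | ht1
  · rfl
  obtain ⟨u, hu, huu, ⟨y₀, hy₀⟩, htu⟩ := exists_axis hd ht ht1
  -- `t` preserves the line through `v`
  obtain ⟨B, hB⟩ := exists_frame hd hv hvv
  have hsub : ∀ z, H.h z B.e = 0 → H.h z z = 0 → ∃ a : F, z = a • B.e := by
    intro z h1 h2
    have hdz := decomp hd B z
    rw [h1, zero_smul, add_zero] at hdz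
    have h3 : H.h z B.w = 0 := by
      rw [hdz] at h2
      simpa [H.add_left, H.add_right, H.smul_left, H.smul_right, B.ee, B.ew, B.we, B.ww] using h2
    exact ⟨H.h z B.f, by rw [h3, zero_smul, add_zero] at hdz; exact hdz⟩
  have htv : H.h v u = 0 := by
    have hgtv : g.1.1 (t.1.1 x₀) + t.1.1 x₀ = t.1.1 v := by
      rw [← hx₀, disp_apply, map_add, ← H.smul_mul_apply, ← H.smul_mul_apply, hgt.eq]
    -- the image of `v` is orthogonal to everything fixed by `g`
    have hperp : ∀ y, H.h y v = 0 → H.h y (t.1.1 v) = 0 := by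
      intro y hy
      rw [← hgtv, H.add_right]
      have h := H.map_form g.1 y (t.1.1 x₀)
      rw [hgx y hy] at h
      rw [h, CharTwo.add_self_eq_zero]
    have he : H.h (t.1.1 v) B.e = 0 := H.eq_zero_symm (hperp B.e (by rw [hB, hvv]))
    obtain ⟨a, ha⟩ := hsub _ he (by rw [H.map_form]; exact hvv)
    rw [hB] at ha
    have ha1 : a = 1 := by
      have h : v = (a * a) • v := by
        rw [mul_smul, ← ha, ← map_smul, ← ha, ← H.smul_mul_apply, ht]; rfl
      have h' : (a * a - 1) • v = 0 := by rw [sub_smul, one_smul, ← h, sub_self]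
      have h2 : (a + 1) ^ 2 = 0 := by
        rw [CharTwo.add_sq, one_pow, pow_two, sub_eq_zero.1 ((smul_eq_zero.1 h').resolve_right hv),
          CharTwo.add_self_eq_zero]
      exact CharTwo.add_eq_zero.1 (pow_eq_zero_iff two_ne_zero |>.1 h2)
    rw [ha1, one_smul] at ha
    rw [← hy₀, disp_apply, H.add_right]
    have h := H.map_form t.1 v y₀
    rw [ha] at h
    rw [h, CharTwo.add_self_eq_zero]
  obtain ⟨a, ha⟩ := hsub u (by rw [hB]; exact H.eq_zero_symm htv) huu
  refine htu x ?_
  rw [ha, H.smul_right, hB, hx, mul_zero]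

omit [FiniteDimensional F V] hd in
/-- The stabiliser of a vector. -/
def fixVec (w : V) : Subgroup H.SIsom where
  carrier := {g | g.1.1 w = w}
  mul_mem' := fun {g k} hg hk => by
    show (g * k).1.1 w = w
    rw [H.smul_mul_apply, show k.1.1 w = w from hk, show g.1.1 w = w from hg]
  one_mem' := rfl
  inv_mem' := fun {g} hg => by
    show (g⁻¹).1.1 w = w
    conv_lhs => rw [← show g.1.1 w = w from hg]
    exact H.inv_apply_self g.1 _

/-- No non-zero vector is an eigenvector of the whole group. -/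
theorem exists_moved (hiso : ∃ v : V, v ≠ 0 ∧ H.h v v = 0) {w : V} (hw : w ≠ 0) :
    ∃ g : H.SIsom, ∀ a : F, g.1.1 w ≠ a • w := by
  obtain ⟨v₀, hv₀, hv₀'⟩ := hiso
  obtain ⟨B, -⟩ := exists_frame hd hv₀ hv₀'
  obtain ⟨v, hvv, hwv⟩ : ∃ v, H.h v v = 0 ∧ H.h w v ≠ 0 := by
    by_contra hc
    push Not at hc
    have h1 := hc B.e B.ee
    have h2 := hc B.f B.ff
    obtain ⟨θ, hθ⟩ := H.conj.exists_trace_one
    have h3 := hc (B.e + B.w + θ • B.f) (by
      simp [H.add_left, H.add_right, H.smul_left, H.smul_right, B.ee, B.ff, B.ef, B.fe, B.ww, B.we, B.wf,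
        B.ew, B.fw]
      linear_combination hθ + CharTwo.add_self_eq_zero (1 : F))
    rw [H.add_right, H.add_right, H.smul_right, h1, h2, mul_zero, zero_add, add_zero] at h3
    refine hw ?_
    rw [decomp hd B w, h1, h2, h3]
    simp
  have hc1 : (1 : F) + H.σ 1 = 0 := by rw [map_one, CharTwo.add_self_eq_zero]
  refine ⟨H.sT hvv hc1, fun a ha => hwv ?_⟩
  rw [H.sT_apply, one_mul] at ha
  have h := congrArg (fun z => H.h z v) ha
  simp only [H.add_left, H.smul_left, hvv, mul_zero, add_zero] at h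
  have hv' : H.h w v • v = (a - 1) • w := by rw [sub_smul, one_smul, ← ha, add_sub_cancel_left]
  by_contra hwv'
  have ha1 : a = 1 := by
    have h' : (a - 1) * H.h w v = 0 := by linear_combination -h
    exact sub_eq_zero.1 ((mul_eq_zero.1 h').resolve_right hwv')
  rw [ha1, sub_self, zero_smul, smul_eq_zero] at hv'
  rcases hv' with h0 | h0
  · exact hwv' h0
  · exact hwv' (by rw [h0, H.zero_right])

end Space

section Proj

variable {F : Type} [Field F] [Fintype F] {q : ℕ}

/-- The projection onto `PSU₃`. -/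
noncomputable def projPSU (hF : Fintype.card F = q ^ 2) : (stdHerm 3 hF).SIsom →* Cfsg.PSU 3 F q :=
  (QuotientGroup.mk' _).comp (suEquiv 3 hF).toMonoidHom

theorem projPSU_surjective (hF : Fintype.card F = q ^ 2) : Function.Surjective (projPSU hF) :=
  (QuotientGroup.mk'_surjective _).comp (suEquiv 3 hF).surjective

theorem mem_ker_projPSU (hF : Fintype.card F = q ^ 2) {g : (stdHerm 3 hF).SIsom} (hg : projPSU hF g = 1) :
    ∃ a : F, a ^ 3 = 1 ∧ ∀ x, g.1.1 x = a • x := by
  have h1 : suEquiv 3 hF g ∈ Subgroup.center (Cfsg.SU 3 F q) := (QuotientGroup.eq_one_iff _).mp hg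
  have h2 : g ∈ Subgroup.center (stdHerm 3 hF).SIsom := by
    rw [Subgroup.mem_center_iff] at h1 ⊢
    intro k
    refine (suEquiv 3 hF).injective ?_
    rw [map_mul, map_mul, h1]
  obtain ⟨a, -, h3, h4⟩ := ((stdHerm 3 hF).mem_center_SIsom_iff
    (by rw [Module.finrank_fin_fun]; norm_num)).1 h2
  exact ⟨a, by rwa [Module.finrank_fin_fun] at h3, h4⟩

theorem pow_three_of_ker (hF : Fintype.card F = q ^ 2) {g : (stdHerm 3 hF).SIsom} (hg : projPSU hF g = 1) :
    g ^ 3 = 1 := by
  obtain ⟨a, ha, hx⟩ := mem_ker_projPSU hF hg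
  refine (stdHerm 3 hF).sisom_ext fun x => ?_
  rw [pow_succ, pow_two, (stdHerm 3 hF).smul_mul_apply, (stdHerm 3 hF).smul_mul_apply, hx, hx, hx, smul_smul,
    smul_smul, show a * a * a = a ^ 3 by ring, ha, one_smul]
  rfl

/-- An involution of `PSU₃` lifts to an involution. -/
theorem exists_lift (hF : Fintype.card F = q ^ 2) {a : Cfsg.PSU 3 F q} (ha : orderOf a = 2) :
    ∃ g, projPSU hF g = a ∧ g * g = 1 ∧ g ≠ 1 := by
  obtain ⟨g, rfl⟩ := projPSU_surjective hF a
  have h2 : projPSU hF g ^ 2 = 1 := by rw [← ha]; exact pow_orderOf_eq_one _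
  have h3 : projPSU hF (g ^ 3) = projPSU hF g := by rw [map_pow, pow_succ, h2, one_mul]
  refine ⟨g ^ 3, h3, ?_, fun h => ?_⟩
  · rw [← pow_add, show (3 + 3) = 2 * 3 by norm_num, pow_mul]
    exact pow_three_of_ker hF (by rw [map_pow]; exact h2)
  · rw [← h3, h, map_one, orderOf_one] at ha
    norm_num at ha

/-- Involutive lifts of commuting involutions commute. -/
theorem commute_lift (hF : Fintype.card F = q ^ 2) {g t : (stdHerm 3 hF).SIsom} (hg : g * g = 1) (ht : t * t = 1)
    (h : Commute (projPSU hF t) (projPSU hF g)) : Commute t g := by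
  have hg' : g⁻¹ = g := inv_eq_of_mul_eq_one_right hg
  obtain ⟨z, hz⟩ : ∃ z, z = t * g * t⁻¹ * g⁻¹ := ⟨_, rfl⟩
  have hz1 : projPSU hF z = 1 := by rw [hz, map_mul, map_mul, map_mul, map_inv, map_inv, h.eq]; group
  obtain ⟨a, -, hax⟩ := mem_ker_projPSU hF hz1
  have hzc : Commute z g := (stdHerm 3 hF).sisom_ext fun x => by
    rw [(stdHerm 3 hF).smul_mul_apply, (stdHerm 3 hF).smul_mul_apply, hax, hax, map_smul]
  have h2 : z ^ 2 = 1 := by
    have e : (z * g) ^ 2 = 1 := by
      rw [show z * g = t * g * t⁻¹ by rw [hz, inv_mul_cancel_right], conj_pow, pow_two g, hg, mul_one,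
        mul_inv_cancel]
    rw [hzc.mul_pow, pow_two g, hg, mul_one] at e
    exact e
  have hone : z = 1 := by
    have h3 := pow_three_of_ker hF hz1
    rwa [pow_succ, h2, one_mul] at h3
  show t * g = g * t
  have h4 : t * g * t⁻¹ = g := mul_inv_eq_one.1 (hz ▸ hone)
  exact mul_inv_eq_iff_eq_mul.1 h4

/-- `PSU₃(q)`, `q ≥ 4` even, is not generated by the involutions commuting with an involution and one more. -/
theorem psu3_not_generated {F : Type} [Field F] [Fintype F] {q : ℕ} (hchar : CharP F 2)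
    (hF : Fintype.card F = q ^ 2) (hq : 4 ≤ q) {a x : Cfsg.PSU 3 F q} (ha : orderOf a = 2)
    (hx : orderOf x = 2) :
    Subgroup.closure ({t | orderOf t = 2 ∧ Commute t a} ∪ {x}) ≠ ⊤ := by
  haveI := hchar
  set H := stdHerm 3 hF
  have hd : Module.finrank F (Fin 3 → F) = 3 := Module.finrank_fin_fun F
  obtain ⟨g, hga, hg, hg1⟩ := exists_lift hF ha
  obtain ⟨k, hkx, hk, hk1⟩ := exists_lift hF hx
  obtain ⟨v, hv, hvv, ⟨x₀, hx₀⟩, hgv⟩ := exists_axis hd hg hg1
  obtain ⟨u, hu, -, -, hku⟩ := exists_axis hd hk hk1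
  obtain ⟨w, hwmem, hw⟩ : ∃ w ∈ H.orth (Submodule.span F {v, u}), w ≠ 0 := by
    refine Submodule.exists_mem_ne_zero_of_ne_bot fun h => ?_
    have h1 := H.finrank_orth (Submodule.span F {v, u})
    rw [h, finrank_bot, hd] at h1
    have h2 : Module.finrank F (Submodule.span F ({v, u} : Set (Fin 3 → F))) ≤ 2 := by
      classical
      refine le_trans (finrank_span_le_card _) ?_
      rw [Set.toFinset_insert, Set.toFinset_singleton]
      exact Finset.card_le_two
    omega
  have hwv : H.h w v = 0 := H.mem_orth_span.1 hwmem v (Set.mem_insert _ _)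
  have hwu : H.h w u = 0 := H.mem_orth_span.1 hwmem u (Set.mem_insert_of_mem _ rfl)
  intro htop
  have hle : (⊤ : Subgroup (Cfsg.PSU 3 F q)) ≤ (fixVec (H := H) w).map (projPSU hF) := by
    rw [← htop, closure_le]
    rintro t (⟨ht, hta⟩ | rfl)
    · obtain ⟨s, hst, hs, -⟩ := exists_lift hF ht
      refine ⟨s, fix_of_commute hd hg hs (commute_lift hF hg hs ?_) hv hvv hx₀ hgv hwv, hst⟩
      rw [hst, hga]
      exact hta
    · exact ⟨k, hku w hwu, hkx⟩
  obtain ⟨v', hv', hvv'⟩ : ∃ v' : Fin 3 → F, v' ≠ 0 ∧ H.h v' v' = 0 := ⟨v, hv, hvv⟩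
  obtain ⟨m, hm⟩ := exists_moved hd ⟨v', hv', hvv'⟩ hw
  obtain ⟨f, hf, hfm⟩ := hle (mem_top (projPSU hF m))
  obtain ⟨c, -, hc⟩ := mem_ker_projPSU hF (g := f⁻¹ * m) (by rw [map_mul, map_inv, hfm, inv_mul_cancel])
  refine hm c ?_
  have hfw : f.1.1 w = w := hf
  calc m.1.1 w = (f * (f⁻¹ * m)).1.1 w := by rw [mul_inv_cancel_left]
    _ = c • w := by rw [H.smul_mul_apply, hc, map_smul, hfw]

end Proj

end Cfsg.Lib.RootInv
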