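import Cfsg.Agent.S2086
import Cfsg.Agent.S0102
import Cfsg.Agent.Suz.Multiplier
import Cfsg.Agent.Classical.Misc.SmallPSL
import Cfsg.Prelude.Def_Sz

/-!
# A perfect central extension of `L₂(2ⁿ)` or of a Suzuki group has no odd centre
-/

set_option autoImplicit false
set_option linter.unusedSectionVars false
set_option linter.style.haveILetI false

open Subgroup

namespace Cfsg.Lib.RootInv

universe u v

variable {G : Type u} [Group G] [Finite G]

/-- No odd prime with cyclic Sylow subgroups in the quotient divides the kernel. -/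
theorem ker_eq_bot_of_cyclic {Q : Type v} [Group Q] [Finite Q] (hperf : commutator G = ⊤) (σ : G →* Q)
    (hσ : Function.Surjective σ) (hz : σ.ker ≤ center G) (hodd : Odd (Nat.card σ.ker))
    (hcyc : ∀ p : ℕ, p.Prime → p ≠ 2 → ¬ p ^ 2 ∣ Nat.card Q) : σ.ker = ⊥ := by
  by_contra h
  obtain ⟨p, hp, hpd⟩ := Nat.exists_prime_and_dvd (n := Nat.card σ.ker) fun e => h (Subgroup.card_eq_one.1 e)
  haveI := Fact.mk hp
  have hp2 : p ≠ 2 := fun e => hodd.not_two_dvd_nat (e ▸ hpd)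
  have hQ : commutator Q = ⊤ := by
    rw [commutator_def, ← Subgroup.map_top_of_surjective σ hσ, ← Subgroup.map_commutator, ← commutator_def, hperf]
  refine Cfsg.Agent.S0102.result hQ (fun P : Sylow p Q => ?_) σ hσ hz hperf hpd
  obtain ⟨k, hk⟩ := IsPGroup.iff_card.mp P.2
  have hk1 : k ≤ 1 := by
    by_contra hc
    exact hcyc p hp hp2 ((pow_dvd_pow p (show 2 ≤ k by omega)).trans (hk ▸ Subgroup.card_subgroup_dvd_card _))
  rcases Nat.le_one_iff_eq_zero_or_eq_one.1 hk1 with rfl | rfl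
  · haveI : Subsingleton (P : Subgroup Q) := (Nat.card_eq_one_iff_unique.1 (by rw [hk, pow_zero])).1
    infer_instance
  · exact isCyclic_of_prime_card (p := p) (by rw [hk, pow_one])

/-- Trivial multiplier: no kernel at all. -/
theorem ker_eq_bot_of_multiplier {Q : Type v} [Group Q] [Finite Q] (hperf : commutator G = ⊤) (σ : G →* Q)
    (hσ : Function.Surjective σ) (hz : σ.ker ≤ center G) (h : Cfsg.HasCyclicSchurMultiplier Q 1) : σ.ker = ⊥ :=
  Cfsg.Lib.Schur.ker_eq_bot_of_hasCyclicSchurMultiplier_one h ⟨hσ, hz, hperf.symm ▸ le_top⟩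

theorem not_sq_dvd_sixty {p : ℕ} (hp : p.Prime) (hp2 : p ≠ 2) : ¬ p ^ 2 ∣ 60 := by
  intro h
  have h1 : p ≤ 7 := by
    by_contra hc
    have := Nat.le_of_dvd (by norm_num) h
    nlinarith
  have := hp.two_le
  interval_cases p <;> norm_num at *

theorem not_sq_dvd_suz {p : ℕ} (hp : p.Prime) (hp2 : p ≠ 2) : ¬ p ^ 2 ∣ 29120 := by
  intro h
  have h1 : p ∣ 29120 := (dvd_pow_self p two_ne_zero).trans h
  rw [show (29120 : ℕ) = 2 ^ 6 * (5 * (7 * 13)) by norm_num] at h1
  rcases hp.dvd_mul.1 h1 with h2 | h2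
  · exact hp2 ((Nat.prime_dvd_prime_iff_eq hp Nat.prime_two).1 (hp.dvd_of_dvd_pow h2))
  rcases hp.dvd_mul.1 h2 with h3 | h3
  · rw [(Nat.prime_dvd_prime_iff_eq hp (by norm_num)).1 h3] at h
    norm_num at h
  rcases hp.dvd_mul.1 h3 with h4 | h4 <;>
  · rw [(Nat.prime_dvd_prime_iff_eq hp (by norm_num)).1 h4] at h
    norm_num at h

/-- An odd centre of a perfect cover of `L₂(2ⁿ)` or of a Suzuki group is trivial. -/
theorem center_part_eq_bot {G : Type*} [Group G] [Finite G] (hperf : commutator G = ⊤) {Z : Subgroup G} [Z.Normal]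
    (hZ : Z ≤ Subgroup.center G) (hodd : Odd (Nat.card Z))
    (hQ : (∃ (F : Type) (_ : Field F) (_ : Fintype F), CharP F 2 ∧ 4 ≤ Fintype.card F ∧
      Nonempty (G ⧸ Z ≃* Matrix.ProjectiveSpecialLinearGroup (Fin 2) F)) ∨ Cfsg.Lie.IsoSuzuki (G ⧸ Z)) :
    Z = ⊥ := by
  have hker : ∀ {Q : Type} [Group Q] (e : G ⧸ Z ≃* Q), (e.toMonoidHom.comp (QuotientGroup.mk' Z)).ker = Z := by
    intro Q _ e
    ext g
    rw [MonoidHom.mem_ker, MonoidHom.comp_apply, MulEquiv.coe_toMonoidHom, map_eq_one_iff _ e.injective]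
    exact QuotientGroup.eq_one_iff g
  rcases hQ with ⟨F, iF, iF', hchar, h4, ⟨e⟩⟩ | ⟨F, iF, iF', m, hm, hF, ⟨e⟩⟩
  · haveI : Finite (Matrix.ProjectiveSpecialLinearGroup (Fin 2) F) := Finite.of_equiv _ e.toEquiv
    set σ := e.toMonoidHom.comp (QuotientGroup.mk' Z)
    have hσ : Function.Surjective σ := e.surjective.comp (QuotientGroup.mk'_surjective Z)
    have hk : σ.ker = Z := hker e
    have hev : 2 ∣ Fintype.card F := by
      obtain ⟨n, hp, hn⟩ := @FiniteField.card F _ _ 2 hchar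
      rw [hn]
      exact dvd_pow_self 2 n.ne_zero
    by_cases h : Fintype.card F = 4
    · rw [← hk]
      refine ker_eq_bot_of_cyclic hperf σ hσ (hk.symm ▸ hZ) (hk.symm ▸ hodd) fun p hp hp2 => ?_
      have hc := Cfsg.Lib.Classical.SmallPSL.card_psl (F := F) h
      norm_num at hc
      rw [hc]
      exact not_sq_dvd_sixty hp hp2
    · rw [← hk]
      refine ker_eq_bot_of_multiplier hperf σ hσ (hk.symm ▸ hZ) ?_
      have h9 : Fintype.card F ≠ 9 := fun h9 => by rw [h9] at hev; norm_num at hev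
      have hg : Nat.gcd 2 (Fintype.card F - 1) = 1 := by
        refine (Nat.prime_two.coprime_iff_not_dvd).2 fun hd => ?_
        omega
      have hm := Cfsg.Agent.S2086.result (F := F) rfl 2 le_rfl (fun _ => h4) (by simp [h, h9])
      rwa [hg] at hm
  · have Q : Cfsg.Lib.Suz.Par F m := ⟨hm, hF⟩
    haveI : Finite ↥(Cfsg.Lie.Sz F (2 ^ (m + 1))) := Finite.of_equiv _ e.toEquiv
    set σ := e.toMonoidHom.comp (QuotientGroup.mk' Z)
    have hσ : Function.Surjective σ := e.surjective.comp (QuotientGroup.mk'_surjective Z)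
    have hk : σ.ker = Z := hker e
    rw [← hk]
    rcases Nat.lt_or_ge m 2 with h | h
    · obtain rfl : m = 1 := by omega
      refine ker_eq_bot_of_cyclic hperf σ hσ (hk.symm ▸ hZ) (hk.symm ▸ hodd) fun p hp hp2 => ?_
      have hc : Nat.card ↥(Cfsg.Lie.Sz F (2 ^ (1 + 1))) = 29120 := by
        rw [← Nat.card_congr (Cfsg.Lib.Suz.lieEquiv Q).toEquiv, Cfsg.Lib.Suz.card_Sz Q]
        norm_num
      rw [hc]
      exact not_sq_dvd_suz hp hp2
    · exact ker_eq_bot_of_multiplier hperf σ hσ (hk.symm ▸ hZ) (Cfsg.Lib.Suz.multiplier_lie Q h)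

end Cfsg.Lib.RootInv
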