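import Cfsg.Agent.RootInv.Rank.Unitary
import Cfsg.Agent.Suz.Lie
import Cfsg.Agent.Suz.Sylow
import Cfsg.Prelude.Def_Sz

/-!
# Elements of order four in Suzuki groups and in `PSU₃` in characteristic two
-/

set_option autoImplicit false
set_option linter.unusedSectionVars false
set_option linter.style.haveILetI false

open Subgroup
open Cfsg.Lib.Classical Cfsg.Lib.Components.UnitaryThree Cfsg.Lib.Known.PSUThree

namespace Cfsg.Lib.RootInv

/-- A Suzuki group has an element of order four. -/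
theorem exists_four_of_suzuki {G : Type*} [Group G] (h : Cfsg.Lie.IsoSuzuki G) : ∃ v : G, orderOf v = 4 := by
  obtain ⟨F, iF, iF', m, hm, hF, ⟨e⟩⟩ := h
  have Q : Cfsg.Lib.Suz.Par F m := ⟨hm, hF⟩
  have h1 : orderOf (Cfsg.Lib.Suz.uu Q (1 : F) 0) = 4 := by
    refine orderOf_eq_prime_pow (p := 2) (n := 1) ?_ ?_
    · rw [pow_one, Cfsg.Lib.Suz.uu_sq, one_pow, ← Cfsg.Lib.Suz.uu_zero Q]
      exact fun h => one_ne_zero (Cfsg.Lib.Suz.uu_inj Q h).2
    · rw [show (2 : ℕ) ^ (1 + 1) = 2 * 2 by norm_num, pow_mul, Cfsg.Lib.Suz.uu_sq, Cfsg.Lib.Suz.uu_sq,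
        zero_pow (Nat.succ_ne_zero _), Cfsg.Lib.Suz.uu_zero]
  exact ⟨e.symm (Cfsg.Lib.Suz.lieEquiv Q (Cfsg.Lib.Suz.uu Q (1 : F) 0)), by
    rw [MulEquiv.orderOf_eq, MulEquiv.orderOf_eq, h1]⟩

section Frame

variable {F : Type} [Field F] [Finite F] [CharP F 2] {V : Type} [AddCommGroup V] [Module F V]
  [FiniteDimensional F V] {H : HermSpace F V} (hd : Module.finrank F V = 3) (B : Frame H)
include hd

/-- A unipotent element moving the middle vector. -/
theorem exists_unipotent : ∃ g : H.SIsom, g ∈ fixE B ∧ eb B g = 1 := by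
  obtain ⟨θ, hθ⟩ := H.conj.exists_trace_one
  let T : V →ₗ[F] V :=
    { toFun := fun x => (H.h x B.f + H.h x B.w + θ * H.h x B.e) • B.e + (H.h x B.w + H.h x B.e) • B.w +
        H.h x B.e • B.f
      map_add' := fun x y => by simp only [H.add_left]; module
      map_smul' := fun c x => by simp only [H.smul_left, RingHom.id_apply]; module }
  have hT : ∀ x, T x = (H.h x B.f + H.h x B.w + θ * H.h x B.e) • B.e + (H.h x B.w + H.h x B.e) • B.w +
      H.h x B.e • B.f := fun x => rfl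
  have h2 : (1 : F) + 1 = 0 := CharTwo.add_self_eq_zero 1
  have hform : ∀ x y, H.h (T x) (T y) = H.h x y := fun x y => by
    conv_rhs => rw [decomp hd B x, decomp hd B y]
    simp [hT, H.add_left, H.add_right, H.smul_left, H.smul_right, B.ee, B.ew, B.ef, B.we, B.ww, B.wf, B.fe,
      B.fw, B.ff]
    linear_combination H.h x B.e * H.σ (H.h y B.e) * hθ + (H.h x B.e * H.σ (H.h y B.e) +
      H.h x B.w * H.σ (H.h y B.e) + H.h x B.e * H.σ (H.h y B.w)) * h2
  have hinj : Function.Injective T := by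
    rw [← LinearMap.ker_eq_bot, LinearMap.ker_eq_bot']
    intro x hx
    have h1 := fun y => hform x y
    simp only [hx, H.zero_left] at h1
    refine H.nondeg x fun y => ?_
    rw [H.symm, ← h1 y, map_zero]
  let E : V ≃ₗ[F] V := LinearEquiv.ofInjectiveEndo T hinj
  have he : T B.e = B.e := by simp [hT, B.ee, B.ew, B.ef]
  have hw : T B.w = B.e + B.w := by simp [hT, B.we, B.ww, B.wf]
  have hf : T B.f = θ • B.e + B.w + B.f := by simp [hT, B.fe, B.fw, B.ff]
  refine ⟨⟨⟨E, hform⟩, ?_⟩, he, ?_⟩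
  · rw [HermSpace.mem_SIsom]
    refine Units.ext ?_
    rw [LinearEquiv.coe_det, Units.val_one, show (E : V →ₗ[F] V) = T from rfl, det_frame hd B T, he, hw, hf]
    simp [Matrix.det_fin_three, H.smul_left, H.add_left, B.ee, B.ew, B.ef, B.we, B.ww, B.wf, B.fe, B.fw, B.ff]
  · show H.h (T B.w) B.f = 1
    rw [hw, H.add_left, B.ef, B.wf, add_zero]

end Frame

/-- `PSU₃(q)`, `q ≥ 4` even, has an element of order four. -/
theorem exists_four_of_psu {F : Type} [Field F] [Fintype F] {q : ℕ} (hchar : CharP F 2)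
    (hF : Fintype.card F = q ^ 2) (hq : 4 ≤ q) : ∃ v : Cfsg.PSU 3 F q, orderOf v = 4 := by
  haveI := hchar
  have hS := setup_std hF (show 3 ≤ q by omega)
  obtain ⟨p⟩ : Nonempty (stdHerm 3 hF).IsoPt :=
    (Nat.card_pos_iff.1 (show 0 < Nat.card (stdHerm 3 hF).IsoPt by rw [hS.pts]; exact Nat.succ_pos _)).1
  obtain ⟨B, -⟩ := exists_frame_pt hS.dim p
  obtain ⟨g, hg, hb⟩ := exists_unipotent hS.dim B
  refine ⟨projPSU hF g, orderOf_eq_prime_pow (p := 2) (n := 1) ?_ ?_⟩
  · rw [pow_one, ← map_pow]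
    intro h1
    obtain ⟨a, -, ha⟩ := mem_ker_projPSU hF h1
    have hge : (g ^ 2).1.1 B.e = B.e := pow_mem hg 2
    have ha1 : a = 1 := by
      have h3 : (a - 1) • B.e = 0 := by rw [sub_smul, one_smul, ← ha, hge, sub_self]
      exact sub_eq_zero.1 ((smul_eq_zero.1 h3).resolve_right B.e_ne)
    have h4 : g ^ 2 = 1 := (stdHerm 3 hF).sisom_ext fun x => by rw [ha, ha1, one_smul]; rfl
    have h5 := (eb_mul hS.dim B hg hg).2
    rw [← pow_two, h4, (eb_one B).2, hb, map_one, mul_one, CharTwo.add_self_eq_zero, zero_sub] at h5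
    exact one_ne_zero (neg_eq_zero.1 h5.symm)
  · have hroot : g ^ 2 ∈ (stdHerm 3 hF).rootGroup B.ee :=
      mem_root_of_eb hS.dim B (pow_mem hg 2) (by rw [eb_pow hS.dim B hg, CharP.cast_eq_zero, zero_mul])
    rw [show (2 : ℕ) ^ (1 + 1) = 2 * 2 by norm_num, ← map_pow, pow_mul,
      root_pow_char hS.dim B 2 hroot, map_one]

end Cfsg.Lib.RootInv
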